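import Mathlib
import Groth.Agent.Lib.Helper7.SplitExt.Alg
import Groth.Agent.Lib.Helper7.Hensel.FiniteDecomp
import Groth.Agent.Lib.Helper7.SHens.Main
import Groth.Agent.Lib.Helper7.SHens.Residue

/-!
# Finite etaleness of the integral closure of a normal local domain in a finite extension of its
fraction field with enough geometric points in the closed fibre
-/

set_option linter.style.haveILetI false
set_option linter.unusedVariables false
set_option linter.unusedSectionVars false
set_option autoImplicit false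
set_option backward.isDefEq.respectTransparency.types false
set_option synthInstance.maxHeartbeats 400000
set_option maxHeartbeats 1600000

open TensorProduct

namespace Groth.Agent.Helper7.NormCard

universe u

/-- A commutative algebra of dimension `n` over a field with `n` pairwise orthogonal nonzero
idempotents is split. -/
theorem exists_algEquiv_pi_of_idempotents (F T : Type*) [Field F] [CommRing T] [Algebra F T]
    [FiniteDimensional F T] (ι : Type*) [Fintype ι] (hcard : Fintype.card ι = Module.finrank F T)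
    (f : ι → T) (hf : ∀ i, f i * f i = f i) (hne : ∀ i, f i ≠ 0)
    (horth : ∀ i j, i ≠ j → f i * f j = 0) : Nonempty (T ≃ₐ[F] (ι → F)) := by
  classical
  obtain ⟨Ψ, hΨ⟩ : ∃ Ψ : (ι → F) →ₗ[F] T, ∀ c : ι → F, Ψ c = ∑ i, c i • f i :=
    ⟨Fintype.linearCombination F f, fun c => Fintype.linearCombination_apply F f c⟩
  have hmul : ∀ (c : ι → F) (j : ι), Ψ c * f j = c j • f j := by
    intro c j
    rw [hΨ, Finset.sum_mul, Finset.sum_eq_single j]
    · rw [smul_mul_assoc, hf]
    · intro i _ hij
      rw [smul_mul_assoc, horth i j hij, smul_zero]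
    · intro h
      exact absurd (Finset.mem_univ j) h
  have hinj : Function.Injective Ψ := by
    rw [injective_iff_map_eq_zero]
    intro c hc
    funext j
    have h1 := hmul c j
    rw [hc, zero_mul] at h1
    exact (smul_eq_zero.mp h1.symm).resolve_right (hne j)
  have hdim : Module.finrank F (ι → F) = Module.finrank F T := by
    rw [Module.finrank_fintype_fun_eq_card, hcard]
  have hsurj : Function.Surjective Ψ :=
    (LinearMap.injective_iff_surjective_of_finrank_eq_finrank hdim).mp hinj
  have hone : Ψ 1 = 1 := by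
    obtain ⟨c₁, hc₁⟩ := hsurj 1
    have h0 : c₁ = 1 := by
      funext j
      have h1 := hmul c₁ j
      rw [hc₁, one_mul] at h1
      have h2 : (1 - c₁ j) • f j = 0 := by rw [sub_smul, one_smul, ← h1, sub_self]
      have h3 := (smul_eq_zero.mp h2).resolve_right (hne j)
      exact (sub_eq_zero.mp h3).symm
    rw [← h0]
    exact hc₁
  have hmulΨ : ∀ x y : ι → F, Ψ (x * y) = Ψ x * Ψ y := by
    intro x y
    rw [hΨ y, Finset.mul_sum, hΨ (x * y)]
    refine Finset.sum_congr rfl fun j _ => ?_
    rw [mul_smul_comm, hmul x j, smul_smul, Pi.mul_apply, mul_comm]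
  exact ⟨(AlgEquiv.ofBijective (AlgHom.ofLinearMap Ψ hone hmulΨ) ⟨hinj, hsurj⟩).symm⟩

/-- Two algebra homomorphisms from an integral algebra to a field over which integral elements are
purely inseparable over the image of the base agree as soon as the kernel of one contains the
kernel of the other. -/
theorem eq_of_forall_eq_zero {R D Ω : Type*} [CommRing R] [CommRing D] [Field Ω] [Algebra R D]
    [Algebra R Ω] [Algebra.IsIntegral R D] (q : ℕ) [ExpChar Ω q]
    (hpi : ∀ x : Ω, IsIntegral R x → ∃ n : ℕ, x ^ q ^ n ∈ (algebraMap R Ω).range)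
    (θ θ' : D →ₐ[R] Ω) (hker : ∀ d, θ d = 0 → θ' d = 0) : θ = θ' := by
  ext d
  obtain ⟨n, r, hr⟩ := hpi (θ d) ((Algebra.IsIntegral.isIntegral (R := R) d).map θ)
  have h1 : θ (d ^ q ^ n - algebraMap R D r) = 0 := by
    rw [map_sub, map_pow, AlgHom.commutes, hr, sub_self]
  have h2 := hker _ h1
  rw [map_sub, map_pow, AlgHom.commutes, hr, sub_eq_zero] at h2
  have h3 : (θ d - θ' d) ^ q ^ n = 0 := by
    rw [sub_pow_expChar_pow, h2, sub_self]
  exact sub_eq_zero.mp ((pow_eq_zero_iff (pow_ne_zero n (expChar_pos Ω q).ne')).mp h3)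

/-- Separating two distinct points of an integral algebra over a henselian local ring by an
idempotent. -/
theorem exists_idempotent_sep (R : Type u) [CommRing R] [HenselianLocalRing R]
    (T' : Type u) [CommRing T'] [Algebra R T'] [Algebra.IsIntegral R T']
    (Ω : Type*) [Field Ω] [Algebra R Ω]
    (hk : ∀ r : R, algebraMap R Ω r = 0 ↔ r ∈ IsLocalRing.maximalIdeal R)
    (q : ℕ) [ExpChar Ω q]
    (hpi : ∀ x : Ω, IsIntegral R x → ∃ n : ℕ, x ^ q ^ n ∈ (algebraMap R Ω).range)
    (θ θ' : T' →ₐ[R] Ω) (hne : θ ≠ θ') :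
    ∃ e : T', IsIdempotentElem e ∧ θ e = 0 ∧ θ' e = 1 := by
  classical
  obtain ⟨t, ht⟩ : ∃ t, θ t ≠ θ' t := by
    by_contra hcon
    push Not at hcon
    exact hne (AlgHom.ext hcon)
  obtain ⟨D, hD⟩ : ∃ D : Subalgebra R T', D = Algebra.adjoin R {t} := ⟨_, rfl⟩
  have htD : t ∈ D := hD ▸ Algebra.subset_adjoin (Set.mem_singleton t)
  haveI hfin : Module.Finite R D := by
    have h1 : (Algebra.adjoin R ({t} : Set T')).toSubmodule.FG :=
      (Algebra.IsIntegral.isIntegral t).fg_adjoin_singleton
    rw [hD]
    exact ⟨(Submodule.fg_top _).mpr h1⟩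
  haveI : Algebra.IsIntegral R D := inferInstance
  obtain ⟨θD, hθD⟩ : ∃ φ : D →ₐ[R] Ω, ∀ d : D, φ d = θ (d : T') := ⟨θ.comp D.val, fun _ => rfl⟩
  obtain ⟨θD', hθD'⟩ : ∃ φ : D →ₐ[R] Ω, ∀ d : D, φ d = θ' (d : T') :=
    ⟨θ'.comp D.val, fun _ => rfl⟩
  have hmax : ∀ φ : D →ₐ[R] Ω, (RingHom.ker (φ : D →+* Ω)).IsMaximal := by
    intro φ
    haveI : (RingHom.ker (φ : D →+* Ω)).IsPrime := RingHom.ker_isPrime _
    apply Ideal.isMaximal_of_isIntegral_of_isMaximal_comap (R := R)
    have h1 : (RingHom.ker (φ : D →+* Ω)).comap (algebraMap R D) =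
        IsLocalRing.maximalIdeal R := by
      ext r
      rw [Ideal.mem_comap, RingHom.mem_ker]
      have h2 : (φ : D →+* Ω) (algebraMap R D r) = algebraMap R Ω r := φ.commutes r
      rw [h2]
      exact hk r
    rw [h1]
    exact IsLocalRing.maximalIdeal.isMaximal R
  haveI h₁ := hmax θD
  haveI h₂ := hmax θD'
  have hne' : RingHom.ker (θD : D →+* Ω) ≠ RingHom.ker (θD' : D →+* Ω) := by
    intro heq
    have h1 : θD = θD' := eq_of_forall_eq_zero q hpi θD θD' (fun d hd => by
      have h2 : d ∈ RingHom.ker (θD : D →+* Ω) := hd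
      rw [heq] at h2
      exact h2)
    apply ht
    have h3 := congrArg (fun φ : D →ₐ[R] Ω => φ ⟨t, htD⟩) h1
    simp only [hθD, hθD'] at h3
    exact h3
  obtain ⟨e, he, he₁, he₂⟩ := Hensel.exists_idempotent_mem_of_ne R D _ _ hne'
  refine ⟨(e : T'), ?_, ?_, ?_⟩
  · exact congrArg Subtype.val he.eq
  · have h4 : θD e = 0 := he₁
    rw [hθD] at h4
    exact h4
  · have h4 : θD' (1 - e) = 0 := he₂
    rw [hθD', Subalgebra.coe_sub, Subalgebra.coe_one, map_sub, map_one, sub_eq_zero] at h4
    exact h4.symm

/-- Abstract form: a strict henselization `R` of the normal local domain `A` with a map to a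
field `Ω` whose kernel is the maximal ideal and such that elements of `Ω` integral over `R` are
purely inseparable over the image of `R`. -/
theorem alg1_abstract (A : Type u) [CommRing A] [IsDomain A] [IsLocalRing A]
    [IsIntegrallyClosed A]
    (R : Type u) [CommRing R] [IsLocalRing R] [Algebra A R] [IsLocalHom (algebraMap A R)]
    [Hensel.IsStrictHenselization A R]
    (K F : Type u) [Field K] [Field F] [Algebra A K] [IsFractionRing A K] [Algebra R F]
    [IsFractionRing R F] [Algebra K F] [Algebra A F] [IsScalarTower A K F] [IsScalarTower A R F]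
    (E : Type u) [Field E] [Algebra K E] [Algebra A E] [IsScalarTower A K E]
    [FiniteDimensional K E]
    (Ω : Type u) [Field Ω] [Algebra R Ω] [Algebra A Ω] [IsScalarTower A R Ω]
    (hk : ∀ r : R, algebraMap R Ω r = 0 ↔ r ∈ IsLocalRing.maximalIdeal R)
    (q : ℕ) [ExpChar Ω q]
    (hpi : ∀ x : Ω, IsIntegral R x → ∃ n : ℕ, x ^ q ^ n ∈ (algebraMap R Ω).range)
    (η : Fin (Module.finrank K E) → (integralClosure A E →ₐ[A] Ω))
    (hη : Function.Injective η) :
    Module.Finite A (integralClosure A E) ∧ Algebra.Etale A (integralClosure A E) := by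
  classical
  haveI hHL : HenselianLocalRing R := Hensel.IsStrictHenselization.henselian (R := A)
  haveI : IsDomain R := (SplitExt.normal_R A R).1
  haveI : Module.Flat A R := SHens.flat_of_isStrictHenselization A R
  haveI : IsLocalization (Algebra.algebraMapSubmonoid R (nonZeroDivisors A)) F :=
    SplitExt.isLocalization_fraction A R F
  haveI : Algebra.IsPushout A R K F :=
    Algebra.isPushout_of_isLocalization (nonZeroDivisors A) K R F
  haveI : Algebra.IsIntegral R (R ⊗[A] integralClosure A E) := inferInstance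
  obtain ⟨θ, hθ⟩ : ∃ θ : Fin (Module.finrank K E) → (R ⊗[A] integralClosure A E →ₐ[R] Ω),
      ∀ i (b : integralClosure A E), θ i (1 ⊗ₜ b) = η i b :=
    ⟨fun i => Algebra.TensorProduct.lift (Algebra.ofId R Ω) (η i) (fun _ _ => Commute.all _ _),
      fun i b => by rw [Algebra.TensorProduct.lift_tmul, map_one, one_mul]⟩
  have hθinj : Function.Injective θ := by
    intro i j hij
    exact hη (AlgHom.ext fun b => by rw [← hθ i b, ← hθ j b, hij])
  have hsep : ∀ i j : Fin (Module.finrank K E), ∃ e : R ⊗[A] integralClosure A E,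
      i ≠ j → (IsIdempotentElem e ∧ θ i e = 0 ∧ θ j e = 1) := by
    intro i j
    by_cases hij : i = j
    · exact ⟨0, fun h => absurd hij h⟩
    · obtain ⟨e, he⟩ := exists_idempotent_sep R _ Ω hk q hpi (θ i) (θ j)
        (fun h => hij (hθinj h))
      exact ⟨e, fun _ => he⟩
  choose g hg using hsep
  have hee : ∀ i j, i ≠ j → IsIdempotentElem (g j i * (1 - g i j)) ∧
      θ i (g j i * (1 - g i j)) = 1 ∧ θ j (g j i * (1 - g i j)) = 0 ∧
      (g j i * (1 - g i j)) * (g i j * (1 - g j i)) = 0 := by
    intro i j hij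
    obtain ⟨h1, h2, h3⟩ := hg i j hij
    obtain ⟨h4, h5, h6⟩ := hg j i (Ne.symm hij)
    refine ⟨h4.mul h1.one_sub, ?_, ?_, ?_⟩
    · rw [map_mul, map_sub, map_one, h6, h2, sub_zero, mul_one]
    · rw [map_mul, h5, zero_mul]
    · have h7 : (1 - g i j) * g i j = 0 := by rw [sub_mul, one_mul, h1.eq, sub_self]
      calc g j i * (1 - g i j) * (g i j * (1 - g j i))
          = g j i * ((1 - g i j) * g i j) * (1 - g j i) := by ring
        _ = 0 := by rw [h7, mul_zero, zero_mul]
  obtain ⟨f, hf⟩ : ∃ f : Fin (Module.finrank K E) → R ⊗[A] integralClosure A E,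
      ∀ i, f i = ∏ j ∈ Finset.univ.erase i, g j i * (1 - g i j) := ⟨_, fun _ => rfl⟩
  have hfidem : ∀ i, f i * f i = f i := by
    intro i
    rw [hf, ← Finset.prod_mul_distrib]
    exact Finset.prod_congr rfl fun j hj => (hee i j (Finset.ne_of_mem_erase hj).symm).1.eq
  have hfθ : ∀ i, θ i (f i) = 1 := by
    intro i
    rw [hf, map_prod]
    exact Finset.prod_eq_one fun j hj => (hee i j (Finset.ne_of_mem_erase hj).symm).2.1
  have hforth : ∀ i k, i ≠ k → f i * f k = 0 := by
    intro i k hik
    have h1 : g k i * (1 - g i k) ∣ f i := by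
      rw [hf]
      exact Finset.dvd_prod_of_mem (fun j => g j i * (1 - g i j))
        (Finset.mem_erase.mpr ⟨hik.symm, Finset.mem_univ k⟩)
    have h2 : g i k * (1 - g k i) ∣ f k := by
      rw [hf]
      exact Finset.dvd_prod_of_mem (fun j => g j k * (1 - g k j))
        (Finset.mem_erase.mpr ⟨hik, Finset.mem_univ i⟩)
    have h3 := mul_dvd_mul h1 h2
    rw [(hee i k hik).2.2.2] at h3
    exact zero_dvd_iff.mp h3
  obtain ⟨m, hm⟩ : ∃ m : R ⊗[A] integralClosure A E →ₐ[R] R ⊗[A] E,
      m = (integralClosure R (R ⊗[A] E)).val.comp (TensorProduct.toIntegralClosure A R E) :=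
    ⟨_, rfl⟩
  have hminj : Function.Injective m := by
    rw [hm, AlgHom.coe_comp]
    exact Subtype.val_injective.comp TensorProduct.toIntegralClosure_injective_of_flat
  obtain ⟨Φ, -⟩ : ∃ Φ : R ⊗[A] E ≃ₐ[R] F ⊗[K] E, True :=
    ⟨(Algebra.IsPushout.cancelBaseChangeAlg A R K F E).symm, trivial⟩
  have hcardU : Fintype.card (ULift.{u} (Fin (Module.finrank K E))) =
      Module.finrank F (F ⊗[K] E) := by
    rw [Fintype.card_ulift, Fintype.card_fin, Module.finrank_baseChange]
  obtain ⟨ψ⟩ := exists_algEquiv_pi_of_idempotents F (F ⊗[K] E)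
    (ULift.{u} (Fin (Module.finrank K E))) hcardU (fun i => Φ (m (f i.down)))
    (fun i => by rw [← map_mul, ← map_mul, hfidem])
    (fun i h0 => by
      have h1 : m (f i.down) = 0 := Φ.injective (by rw [h0, map_zero])
      have h2 : f i.down = 0 := hminj (by rw [h1, map_zero])
      have h3 := hfθ i.down
      rw [h2, map_zero] at h3
      exact zero_ne_one h3)
    (fun i j hij => by
      rw [← map_mul, ← map_mul, hforth i.down j.down (fun h => hij (ULift.ext _ _ h)), map_zero,
        map_zero])
  exact SplitExt.core A R K F E (ULift.{u} (Fin (Module.finrank K E))) ψ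

/-- Concrete form with an abstract separable closure of the residue field inside `Ω`. -/
theorem alg1' (A : Type u) [CommRing A] [IsDomain A] [IsLocalRing A] [IsIntegrallyClosed A]
    (K : Type u) [Field K] [Algebra A K] [IsFractionRing A K]
    (E : Type u) [Field E] [Algebra K E] [Algebra A E] [IsScalarTower A K E]
    [FiniteDimensional K E]
    (Ω : Type u) [Field Ω] [Algebra A Ω]
    (Ks : Type u) [Field Ks] [Algebra A Ks] [Algebra (IsLocalRing.ResidueField A) Ks]
    [IsScalarTower A (IsLocalRing.ResidueField A) Ks]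
    [IsSepClosure (IsLocalRing.ResidueField A) Ks] [Algebra Ks Ω] [IsScalarTower A Ks Ω]
    (η : Fin (Module.finrank K E) → (integralClosure A E →ₐ[A] Ω))
    (hη : Function.Injective η) :
    Module.Finite A (integralClosure A E) ∧ Algebra.Etale A (integralClosure A E) := by
  classical
  haveI : Algebra.IsSeparable (IsLocalRing.ResidueField A) Ks := IsSepClosure.separable
  haveI : IsSepClosed Ks := IsSepClosure.sep_closed (k := IsLocalRing.ResidueField A)
  haveI hSH : Hensel.IsStrictHenselization A (SHens.G A Ks) := SHens.isStrictHenselization_G A Ks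
  haveI hdom : IsDomain (SHens.G A Ks) := (SplitExt.normal_R A (SHens.G A Ks)).1
  haveI hff : Module.FaithfullyFlat A (SHens.G A Ks) :=
    SHens.faithfullyFlat_of_isStrictHenselization A _
  have hinjAR : Function.Injective (algebraMap A (SHens.G A Ks)) :=
    FaithfulSMul.algebraMap_injective A _
  have hinjAF : Function.Injective (algebraMap A (FractionRing (SHens.G A Ks))) := by
    rw [IsScalarTower.algebraMap_eq A (SHens.G A Ks) (FractionRing (SHens.G A Ks))]
    exact (IsFractionRing.injective (SHens.G A Ks) _).comp hinjAR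
  letI : Algebra K (FractionRing (SHens.G A Ks)) := (IsFractionRing.lift hinjAF).toAlgebra
  haveI : IsScalarTower A K (FractionRing (SHens.G A Ks)) :=
    IsScalarTower.of_algebraMap_eq (fun a => (IsFractionRing.lift_algebraMap hinjAF a).symm)
  letI : Algebra (SHens.G A Ks) Ω :=
    ((algebraMap Ks Ω).comp (SHens.σ : SHens.G A Ks →ₐ[A] Ks).toRingHom).toAlgebra
  have halg : ∀ r : SHens.G A Ks, algebraMap (SHens.G A Ks) Ω r =
      algebraMap Ks Ω ((SHens.σ : SHens.G A Ks →ₐ[A] Ks) r) := fun _ => rfl
  haveI : IsScalarTower A (SHens.G A Ks) Ω := IsScalarTower.of_algebraMap_eq (fun a => by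
    rw [halg, AlgHom.commutes, ← IsScalarTower.algebraMap_apply])
  have hk : ∀ r : SHens.G A Ks, algebraMap (SHens.G A Ks) Ω r = 0 ↔
      r ∈ IsLocalRing.maximalIdeal (SHens.G A Ks) := by
    intro r
    rw [halg, map_eq_zero_iff _ (algebraMap Ks Ω).injective, SHens.mem_maximalIdeal_iff]
  obtain ⟨q, hq⟩ := ExpChar.exists Ks
  haveI : ExpChar Ω q := expChar_of_injective_algebraMap (algebraMap Ks Ω).injective q
  have hpi : ∀ x : Ω, IsIntegral (SHens.G A Ks) x →
      ∃ n : ℕ, x ^ q ^ n ∈ (algebraMap (SHens.G A Ks) Ω).range := by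
    intro x hx
    letI : Algebra (SHens.G A Ks) Ks :=
      (SHens.σ : SHens.G A Ks →ₐ[A] Ks).toRingHom.toAlgebra
    haveI : IsScalarTower (SHens.G A Ks) Ks Ω := IsScalarTower.of_algebraMap_eq (fun _ => rfl)
    have hx' : IsIntegral Ks x := hx.tower_top
    have hmem : x ∈ algebraicClosure Ks Ω := mem_algebraicClosure_iff.mpr hx'.isAlgebraic
    obtain ⟨n, c, hc⟩ := IsPurelyInseparable.pow_mem Ks q
      (⟨x, hmem⟩ : algebraicClosure Ks Ω)
    obtain ⟨r, hr⟩ := SHens.σ_surjective A Ks c
    refine ⟨n, r, ?_⟩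
    rw [halg, hr]
    have h1 := congrArg Subtype.val hc
    simpa using h1
  exact alg1_abstract A (SHens.G A Ks) K (FractionRing (SHens.G A Ks)) E Ω hk q hpi η hη

/-- A normal local domain `A` with fraction field `K`, a finite extension `E` of `K` and `[E : K]`
distinct `A`-algebra homomorphisms from the integral closure of `A` in `E` to an algebraically
closed field `Ω` over the residue field: the integral closure is finite etale over `A`. -/
theorem alg1 (A : Type u) [CommRing A] [IsDomain A] [IsLocalRing A] [IsIntegrallyClosed A]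
    (K : Type u) [Field K] [Algebra A K] [IsFractionRing A K]
    (E : Type u) [Field E] [Algebra K E] [Algebra A E] [IsScalarTower A K E]
    [FiniteDimensional K E]
    (Ω : Type u) [Field Ω] [IsAlgClosed Ω] [Algebra A Ω] [IsLocalHom (algebraMap A Ω)]
    (η : Fin (Module.finrank K E) → (integralClosure A E →ₐ[A] Ω))
    (hη : Function.Injective η) :
    Module.Finite A (integralClosure A E) ∧ Algebra.Etale A (integralClosure A E) := by
  classical
  letI : Algebra (IsLocalRing.ResidueField A) Ω :=
    (IsLocalRing.ResidueField.lift (algebraMap A Ω)).toAlgebra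
  haveI : IsScalarTower A (IsLocalRing.ResidueField A) Ω :=
    IsScalarTower.of_algebraMap_eq (fun a => rfl)
  haveI : IsScalarTower A (separableClosure (IsLocalRing.ResidueField A) Ω) Ω :=
    IsScalarTower.of_algebraMap_eq (fun a => rfl)
  exact alg1' A K E Ω (separableClosure (IsLocalRing.ResidueField A) Ω) η hη

end Groth.Agent.Helper7.NormCard
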