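import Mathlib
import Groth.Agent.Lib.Helper6.Normal.Etale

/-!
# Spreading out finite etaleness of the integral closure from a local ring to a principal open
-/

set_option linter.style.haveILetI false
set_option linter.unusedVariables false
set_option linter.unusedSectionVars false
set_option autoImplicit false
set_option backward.isDefEq.respectTransparency.types false
set_option synthInstance.maxHeartbeats 400000
set_option maxHeartbeats 1600000

open TensorProduct

namespace Groth.Agent.Helper7.NormCard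

universe u

attribute [local instance] Algebra.TensorProduct.rightAlgebra

/-- The multiplication map from the base change of a subalgebra of a field to a localization into
the field is injective. -/
theorem mu_injective {A₀ : Type*} [CommRing A₀] (M : Submonoid A₀) (A' : Type*) [CommRing A']
    [Algebra A₀ A'] [IsLocalization M A'] (L : Type*) [Field L] [Algebra A₀ L] [Algebra A' L]
    [IsScalarTower A₀ A' L] (C₁ : Subalgebra A₀ L) (μ : A' ⊗[A₀] C₁ →ₐ[A'] L)
    (hμ : ∀ c : C₁, μ (1 ⊗ₜ c) = (c : L)) : Function.Injective μ := by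
  rw [injective_iff_map_eq_zero]
  intro z hz
  obtain ⟨⟨c, σ⟩, hσ⟩ := IsLocalizedModule.surj M (TensorProduct.mk A₀ A' C₁ 1) z
  have hσ' : algebraMap A₀ A' (σ : A₀) • z = (1 : A') ⊗ₜ[A₀] c := by
    rw [algebraMap_smul]
    exact hσ
  have h1 : (c : L) = 0 := by
    have h2 := congrArg μ hσ'
    rw [hμ, map_smul, hz, smul_zero] at h2
    exact h2.symm
  have h3 : c = 0 := Subtype.ext h1
  rw [h3, tmul_zero] at hσ'
  exact (IsLocalization.map_units A' σ).smul_eq_zero.mp hσ'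

theorem spread (A₀ : Type u) [CommRing A₀] [IsDomain A₀] [IsIntegrallyClosed A₀]
    (L : Type u) [Field L] [Algebra A₀ L] (hinjL : Function.Injective (algebraMap A₀ L))
    (halg : ∀ y : L, ∃ a : A₀, a ≠ 0 ∧ IsIntegral A₀ (a • y))
    (p : Ideal A₀) [p.IsPrime]
    (Ap : Type u) [CommRing Ap] [Algebra A₀ Ap] [IsLocalization.AtPrime Ap p] [Algebra Ap L]
    [IsScalarTower A₀ Ap L]
    [Module.Finite Ap (integralClosure Ap L)] [Algebra.Etale Ap (integralClosure Ap L)] :
    ∃ f : A₀, f ∉ p ∧ ∀ (A' : Type u) [CommRing A'] [Algebra A₀ A'] [IsLocalization.Away f A']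
      [Algebra A' L] [IsScalarTower A₀ A' L], Algebra.Etale A' (integralClosure A' L) := by
  classical
  haveI : IsLocalRing Ap := IsLocalization.AtPrime.isLocalRing Ap p
  haveI : Module.Flat Ap (integralClosure Ap L) := inferInstance
  haveI : Module.Free Ap (integralClosure Ap L) := Module.free_of_flat_of_isLocalRing
  obtain ⟨ι, hι, ⟨β⟩⟩ : ∃ (ι : Type u) (_ : Fintype ι),
      Nonempty (Module.Basis ι Ap (integralClosure Ap L)) :=
    ⟨Module.Free.ChooseBasisIndex Ap (integralClosure Ap L), inferInstance,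
      ⟨Module.Free.chooseBasis Ap _⟩⟩
  -- a common multiplier making the basis integral over `A₀`
  have hmi : ∀ i, ∃ m : p.primeCompl, IsIntegral A₀ (m • ((β i : integralClosure Ap L) : L)) :=
    fun i => IsIntegral.exists_multiple_integral_of_isLocalization p.primeCompl _ (β i).2
  choose mi hmi using hmi
  obtain ⟨m, hmS, hm⟩ : ∃ m : A₀, m ∈ p.primeCompl ∧
      ∀ i, IsIntegral A₀ (m • ((β i : integralClosure Ap L) : L)) := by
    refine ⟨∏ i, (mi i : A₀), prod_mem (fun i _ => (mi i).2), fun i => ?_⟩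
    rw [← Finset.prod_erase_mul _ _ (Finset.mem_univ i), mul_smul]
    exact (hmi i).smul _
  have hmu : IsUnit (algebraMap A₀ Ap m) := IsLocalization.map_units Ap (⟨m, hmS⟩ : p.primeCompl)
  obtain ⟨b, hb⟩ : ∃ b : ι → L, ∀ i, b i = m • ((β i : integralClosure Ap L) : L) :=
    ⟨_, fun _ => rfl⟩
  have hbint : ∀ i, IsIntegral A₀ (b i) := fun i => by rw [hb]; exact hm i
  obtain ⟨NL, hNL⟩ : ∃ NL : Submodule A₀ L, NL = Submodule.span A₀ (Set.range b) := ⟨_, rfl⟩
  have hbN : ∀ i, b i ∈ NL := fun i => hNL ▸ Submodule.subset_span (Set.mem_range_self i)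
  -- integral elements over `Ap` have a multiple in `NL`
  have hF1 : ∀ y : L, IsIntegral Ap y → ∃ σ : A₀, σ ∈ p.primeCompl ∧ σ • y ∈ NL := by
    intro y hy
    obtain ⟨τ, hτ⟩ := IsLocalization.exist_integer_multiples p.primeCompl Finset.univ
      (fun i => β.repr ⟨y, hy⟩ i)
    choose a ha using fun i => hτ i (Finset.mem_univ i)
    refine ⟨m * (τ : A₀), mul_mem hmS τ.2, ?_⟩
    have hy' : y = ∑ i, (β.repr ⟨y, hy⟩ i) • ((β i : integralClosure Ap L) : L) := by
      have h1 := congrArg (integralClosure Ap L).val (β.sum_repr ⟨y, hy⟩)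
      rw [map_sum] at h1
      simp only [map_smul] at h1
      exact h1.symm
    rw [hy', Finset.smul_sum]
    refine NL.sum_mem fun i _ => ?_
    have h2 : (m * (τ : A₀)) • ((β.repr ⟨y, hy⟩ i) • ((β i : integralClosure Ap L) : L)) =
        a i • b i := by
      have h3 : algebraMap A₀ Ap (a i) = (τ : A₀) • β.repr ⟨y, hy⟩ i := ha i
      rw [hb, mul_smul, ← smul_assoc (τ : A₀), ← h3, algebraMap_smul, smul_comm]
    rw [h2]
    exact NL.smul_mem _ (hbN i)
  -- linear independence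
  have hli : ∀ g : ι → A₀, ∑ i, g i • b i = 0 → g = 0 := by
    intro g hg
    have h1 : ∑ j, (algebraMap A₀ Ap (g j * m)) • β j = 0 := by
      apply Subtype.ext
      have h2 : (integralClosure Ap L).val (∑ j, (algebraMap A₀ Ap (g j * m)) • β j) = 0 := by
        rw [map_sum, ← hg]
        refine Finset.sum_congr rfl fun j _ => ?_
        rw [map_smul, algebraMap_smul, mul_smul, hb]
        rfl
      exact h2
    funext i
    have h2 := (Fintype.linearIndependent_iff.mp β.linearIndependent) _ h1 i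
    have h3 : g i * m = 0 :=
      (IsLocalization.injective Ap p.primeCompl_le_nonZeroDivisors) (by rw [h2, map_zero])
    exact (mul_eq_zero.mp h3).resolve_right (fun h => hmS (by rw [h]; exact p.zero_mem))
  -- the finite subalgebra generated by the basis
  obtain ⟨C₁, hC₁⟩ : ∃ C₁ : Subalgebra A₀ L, C₁ = Algebra.adjoin A₀ (Set.range b) := ⟨_, rfl⟩
  have hbC : ∀ i, b i ∈ C₁ := fun i => hC₁ ▸ Algebra.subset_adjoin (Set.mem_range_self i)
  have hCint : ∀ c ∈ C₁, IsIntegral A₀ c := by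
    intro c hc
    have hle : C₁ ≤ integralClosure A₀ L := by
      rw [hC₁]
      exact Algebra.adjoin_le (by rintro _ ⟨i, rfl⟩; exact hbint i)
    exact hle hc
  have hfg : C₁.toSubmodule.FG := by
    rw [hC₁]
    exact fg_adjoin_of_finite (Set.finite_range b) (by rintro _ ⟨i, rfl⟩; exact hbint i)
  haveI hCfin : Module.Finite A₀ C₁ := ⟨(Submodule.fg_top _).mpr hfg⟩
  have hNC : ∀ y ∈ NL, y ∈ C₁ := by
    intro y hy
    have hle : NL ≤ C₁.toSubmodule := by
      rw [hNL, Submodule.span_le]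
      rintro _ ⟨i, rfl⟩
      exact hbC i
    exact hle hy
  obtain ⟨s, hsS, hs⟩ : ∃ s : A₀, s ∈ p.primeCompl ∧ ∀ c ∈ C₁, s • c ∈ NL := by
    obtain ⟨G, hG⟩ := hfg
    have hG1 : ∀ g : L, ∃ σ : A₀, σ ∈ p.primeCompl ∧ (g ∈ G → σ • g ∈ NL) := by
      intro g
      by_cases hg : g ∈ G
      · have hgC : g ∈ C₁ := by
          have h1 : g ∈ Submodule.span A₀ (G : Set L) := Submodule.subset_span hg
          rw [hG] at h1
          exact h1
        obtain ⟨σ, hσ, h⟩ := hF1 g ((hCint g hgC).tower_top)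
        exact ⟨σ, hσ, fun _ => h⟩
      · exact ⟨1, p.primeCompl.one_mem, fun h => absurd h hg⟩
    choose σ hσS hσ using hG1
    refine ⟨∏ g ∈ G, σ g, prod_mem (fun g _ => hσS g), fun c hc => ?_⟩
    have hc' : c ∈ Submodule.span A₀ (G : Set L) := by rw [hG]; exact hc
    have hle : Submodule.span A₀ (G : Set L) ≤
        NL.comap (LinearMap.lsmul A₀ L (∏ g ∈ G, σ g)) := by
      rw [Submodule.span_le]
      intro g hg
      show (∏ g ∈ G, σ g) • g ∈ NL
      rw [← Finset.prod_erase_mul G σ hg, mul_smul]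
      exact NL.smul_mem _ (hσ g hg)
    exact hle hc'
  -- Kähler differentials of `C₁` vanish at `p`
  haveI hWfin : Module.Finite A₀ (Ω[C₁⁄A₀]) := Module.Finite.trans C₁ _
  haveI : Algebra.IsIntegral A₀ C₁ := inferInstance
  obtain ⟨f₁, hf₁S, hf₁⟩ : ∃ f₁ : A₀, f₁ ∈ p.primeCompl ∧ ∀ w : Ω[C₁⁄A₀], f₁ • w = 0 := by
    -- the comparison of `Ap ⊗ C₁` with the integral closure over `Ap`
    obtain ⟨μp₀, hμp₀⟩ : ∃ μ : Ap ⊗[A₀] C₁ →ₐ[Ap] L, ∀ (a : Ap) (c : C₁),
        μ (a ⊗ₜ c) = a • (c : L) :=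
      ⟨Algebra.TensorProduct.lift (Algebra.ofId Ap L) C₁.val (fun _ _ => Commute.all _ _),
        fun a c => by
          rw [Algebra.TensorProduct.lift_tmul, Algebra.ofId_apply, Algebra.smul_def]
          rfl⟩
    have hμp₀inj : Function.Injective μp₀ :=
      mu_injective p.primeCompl Ap L C₁ μp₀ (fun c => by rw [hμp₀, one_smul])
    obtain ⟨μp, hμp⟩ : ∃ μ : Ap ⊗[A₀] C₁ →ₐ[Ap] integralClosure Ap L,
        ∀ z, ((μ z : integralClosure Ap L) : L) = μp₀ z :=
      ⟨μp₀.codRestrict _ (fun z => (Algebra.IsIntegral.isIntegral z).map μp₀), fun _ => rfl⟩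
    have hμpinj : Function.Injective μp := by
      intro z z' h
      apply hμp₀inj
      rw [← hμp, ← hμp, h]
    have hμpsurj : Function.Surjective μp := by
      have hr : LinearMap.range μp.toLinearMap = ⊤ := by
        rw [eq_top_iff, ← β.span_eq, Submodule.span_le]
        rintro _ ⟨i, rfl⟩
        obtain ⟨u, hu⟩ := hmu.exists_left_inv
        refine ⟨u ⊗ₜ ⟨b i, hbC i⟩, Subtype.ext ?_⟩
        rw [AlgHom.toLinearMap_apply, hμp, hμp₀]
        show u • b i = _
        rw [hb, ← algebraMap_smul Ap m, smul_smul, hu, one_smul]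
      intro y
      obtain ⟨z, hz⟩ := (LinearMap.range_eq_top.mp hr) y
      exact ⟨z, hz⟩
    haveI : Algebra.FormallyUnramified Ap (Ap ⊗[A₀] C₁) :=
      Algebra.FormallyUnramified.of_equiv (AlgEquiv.ofBijective μp ⟨hμpinj, hμpsurj⟩).symm
    haveI hsub : Subsingleton (Ap ⊗[A₀] Ω[C₁⁄A₀]) :=
      (KaehlerDifferential.tensorKaehlerEquivBase A₀ Ap C₁ (Ap ⊗[A₀] C₁)).toEquiv.subsingleton
    obtain ⟨G, hG⟩ := (Module.Finite.fg_top : (⊤ : Submodule A₀ (Ω[C₁⁄A₀])).FG)
    have h1 : ∀ w : Ω[C₁⁄A₀], ∃ t : p.primeCompl, t • w = 0 := by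
      intro w
      have h2 : (TensorProduct.mk A₀ Ap (Ω[C₁⁄A₀]) 1) w = 0 := Subsingleton.elim _ _
      exact (IsLocalizedModule.eq_zero_iff p.primeCompl
        (TensorProduct.mk A₀ Ap (Ω[C₁⁄A₀]) 1)).mp h2
    choose t ht using h1
    refine ⟨∏ g ∈ G, (t g : A₀), prod_mem (fun g _ => (t g).2), fun w => ?_⟩
    have hw : w ∈ Submodule.span A₀ (G : Set (Ω[C₁⁄A₀])) := by rw [hG]; trivial
    have hle : Submodule.span A₀ (G : Set (Ω[C₁⁄A₀])) ≤
        LinearMap.ker (LinearMap.lsmul A₀ (Ω[C₁⁄A₀]) (∏ g ∈ G, (t g : A₀))) := by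
      rw [Submodule.span_le]
      intro g hg
      show (∏ g ∈ G, (t g : A₀)) • g = 0
      rw [← Finset.prod_erase_mul G _ hg, mul_smul]
      have h3 : (t g : A₀) • g = 0 := ht g
      rw [h3, smul_zero]
    exact hle hw
  refine ⟨s * f₁, fun h => (Ideal.IsPrime.mem_or_mem ‹p.IsPrime› h).elim hsS hf₁S, ?_⟩
  intro A' _ _ _ _ _
  have hfu : IsUnit (algebraMap A₀ A' (s * f₁)) := IsLocalization.Away.algebraMap_isUnit (s * f₁)
  rw [map_mul, IsUnit.mul_iff] at hfu
  obtain ⟨hsu, hf₁u⟩ := hfu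
  have hf0 : s * f₁ ≠ 0 := fun h => by
    have : s * f₁ ∈ p := by rw [h]; exact p.zero_mem
    exact (Ideal.IsPrime.mem_or_mem ‹p.IsPrime› this).elim hsS hf₁S
  have hM : Submonoid.powers (s * f₁) ≤ nonZeroDivisors A₀ :=
    powers_le_nonZeroDivisors_of_noZeroDivisors hf0
  haveI : IsDomain A' := IsLocalization.isDomain_of_le_nonZeroDivisors A' hM
  haveI : IsIntegrallyClosed A' := isIntegrallyClosed_of_isLocalization A' _ hM
  -- formally unramified
  haveI hsubW : Subsingleton (A' ⊗[A₀] Ω[C₁⁄A₀]) := by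
    refine subsingleton_of_forall_eq 0 fun z => ?_
    induction z with
    | zero => rfl
    | tmul a w =>
      obtain ⟨u₁, hu₁⟩ := hf₁u.exists_left_inv
      have ha : a = f₁ • (a * u₁) := by
        rw [Algebra.smul_def, mul_comm, mul_assoc, hu₁, mul_one]
      rw [ha, TensorProduct.smul_tmul, hf₁, tmul_zero]
    | add x y hx hy => rw [hx, hy, add_zero]
  haveI : Algebra.FormallyUnramified A' (A' ⊗[A₀] C₁) :=
    ⟨(KaehlerDifferential.tensorKaehlerEquivBase A₀ A' C₁ (A' ⊗[A₀] C₁)).symm.toEquiv.subsingleton⟩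
  -- free
  obtain ⟨φ, hφ⟩ : ∃ φ : (ι → A₀) →ₗ[A₀] C₁, ∀ g : ι → A₀, ((φ g : C₁) : L) = ∑ i, g i • b i :=
    ⟨Fintype.linearCombination A₀ (fun i => (⟨b i, hbC i⟩ : C₁)), fun g => by
      rw [Fintype.linearCombination_apply]
      have h1 := map_sum C₁.val (fun i => g i • (⟨b i, hbC i⟩ : C₁)) Finset.univ
      simp only [map_smul] at h1
      exact h1⟩
  have hφinj : Function.Injective φ := by
    rw [injective_iff_map_eq_zero]
    intro g hg
    apply hli
    rw [← hφ, hg]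
    rfl
  haveI : Module.Flat A₀ A' := IsLocalization.flat A' (Submonoid.powers (s * f₁))
  obtain ⟨Φ, hΦ⟩ : ∃ Φ : A' ⊗[A₀] (ι → A₀) →ₗ[A'] A' ⊗[A₀] C₁,
      ∀ (a : A') (g : ι → A₀), Φ (a ⊗ₜ g) = a ⊗ₜ φ g :=
    ⟨TensorProduct.AlgebraTensorModule.lTensor A' A' φ, fun _ _ => rfl⟩
  have hΦinj : Function.Injective Φ := by
    have h1 : Function.Injective (LinearMap.lTensor A' φ) :=
      Module.Flat.lTensor_preserves_injective_linearMap (M := A') φ hφinj
    intro x y hxy
    apply h1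
    have h2 : ∀ z : A' ⊗[A₀] (ι → A₀), LinearMap.lTensor A' φ z = Φ z := by
      intro z
      induction z with
      | zero => simp
      | tmul a g => rw [LinearMap.lTensor_tmul, hΦ]
      | add x y hx hy => rw [map_add, map_add, hx, hy]
    rw [h2, h2, hxy]
  have hΦsurj : Function.Surjective Φ := by
    intro z
    induction z with
    | zero => exact ⟨0, map_zero _⟩
    | tmul a c =>
      obtain ⟨us, hus⟩ := hsu.exists_left_inv
      obtain ⟨g, hg⟩ := (Submodule.mem_span_range_iff_exists_fun A₀).mp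
        (hNL ▸ hs (c : L) c.2)
      refine ⟨(a * us) ⊗ₜ g, ?_⟩
      rw [hΦ]
      have h1 : φ g = s • c := Subtype.ext (by rw [hφ, hg]; rfl)
      rw [h1, ← TensorProduct.smul_tmul, Algebra.smul_def, mul_comm, mul_assoc, hus, mul_one]
    | add x y hx hy =>
      obtain ⟨x', rfl⟩ := hx
      obtain ⟨y', rfl⟩ := hy
      exact ⟨x' + y', map_add _ _ _⟩
  haveI : Module.Free A' (A' ⊗[A₀] C₁) :=
    Module.Free.of_equiv (LinearEquiv.ofBijective Φ ⟨hΦinj, hΦsurj⟩)
  haveI : Module.FinitePresentation A' (A' ⊗[A₀] C₁) :=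
    Module.finitePresentation_of_projective A' _
  haveI : Algebra.FinitePresentation A' (A' ⊗[A₀] C₁) := inferInstance
  haveI hDet : Algebra.Etale A' (A' ⊗[A₀] C₁) := Algebra.Etale.of_formallyUnramified_of_flat
  -- identification with the integral closure
  obtain ⟨μ₀, hμ₀⟩ : ∃ μ : A' ⊗[A₀] C₁ →ₐ[A'] L, ∀ (a : A') (c : C₁),
      μ (a ⊗ₜ c) = a • (c : L) :=
    ⟨Algebra.TensorProduct.lift (Algebra.ofId A' L) C₁.val (fun _ _ => Commute.all _ _),
      fun a c => by
        rw [Algebra.TensorProduct.lift_tmul, Algebra.ofId_apply, Algebra.smul_def]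
        rfl⟩
  have hμ₀inj : Function.Injective μ₀ :=
    mu_injective (Submonoid.powers (s * f₁)) A' L C₁ μ₀ (fun c => by rw [hμ₀, one_smul])
  haveI : IsDomain (A' ⊗[A₀] C₁) := Function.Injective.isDomain μ₀.toRingHom hμ₀inj
  have hnorm : EGA4.IsNormalRing (A' ⊗[A₀] C₁) :=
    Groth.Agent.Lib.Helper6.Normal.isNormalRing_of_etale A' (A' ⊗[A₀] C₁)
  haveI : IsIntegrallyClosed (A' ⊗[A₀] C₁) :=
    IsIntegrallyClosed.of_localization_maximal (fun P _ _ => (hnorm P).2)
  letI : Algebra (A' ⊗[A₀] C₁) L := μ₀.toRingHom.toAlgebra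
  have hDL : ∀ z : A' ⊗[A₀] C₁, algebraMap (A' ⊗[A₀] C₁) L z = μ₀ z := fun _ => rfl
  haveI : IsScalarTower A' (A' ⊗[A₀] C₁) L := ⟨fun a z l => by
    rw [Algebra.smul_def z l, Algebra.smul_def (a • z) l, hDL, hDL, map_smul, smul_mul_assoc]⟩
  haveI : FaithfulSMul (A' ⊗[A₀] C₁) L :=
    (faithfulSMul_iff_algebraMap_injective _ _).mpr hμ₀inj
  haveI : IsFractionRing (A' ⊗[A₀] C₁) L := by
    refine IsFractionRing.of_field _ L fun y => ?_
    obtain ⟨a, ha0, hay⟩ := halg y
    obtain ⟨σ, hσS, hσ⟩ := hF1 (a • y) hay.tower_top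
    have hσ0 : σ ≠ 0 := fun h => hσS (by rw [h]; exact p.zero_mem)
    refine ⟨(1 : A') ⊗ₜ ⟨σ • a • y, hNC _ hσ⟩,
      algebraMap A' (A' ⊗[A₀] C₁) (algebraMap A₀ A' (σ * a)), ?_⟩
    have hne : algebraMap A₀ L (σ * a) ≠ 0 :=
      (map_ne_zero_iff _ hinjL).mpr (mul_ne_zero hσ0 ha0)
    rw [hDL, hDL, hμ₀, one_smul, AlgHom.commutes, ← IsScalarTower.algebraMap_apply,
      eq_div_iff hne, mul_comm, ← Algebra.smul_def, mul_smul]
  haveI : Algebra.IsIntegral A' (A' ⊗[A₀] C₁) := inferInstance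
  obtain ⟨μ', hμ'⟩ : ∃ μ : A' ⊗[A₀] C₁ →ₐ[A'] integralClosure A' L,
      ∀ z, ((μ z : integralClosure A' L) : L) = μ₀ z :=
    ⟨μ₀.codRestrict _ (fun z => (Algebra.IsIntegral.isIntegral z).map μ₀), fun _ => rfl⟩
  have hμ'bij : Function.Bijective μ' := by
    refine ⟨fun z z' h => hμ₀inj (by rw [← hμ', ← hμ', h]), fun y => ?_⟩
    have hy : IsIntegral (A' ⊗[A₀] C₁) (y : L) := y.2.tower_top
    obtain ⟨z, hz⟩ := IsIntegrallyClosed.algebraMap_eq_of_integral hy
    exact ⟨z, Subtype.ext (by rw [hμ', ← hDL, hz])⟩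
  exact Algebra.Etale.of_equiv (AlgEquiv.ofBijective μ' hμ'bij)

end Groth.Agent.Helper7.NormCard
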