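import Mathlib
import Groth.Agent.Lib.Helper7.NormCard.Split
import Groth.Agent.Lib.Helper7.NormCard.Spread

/-!
# The algebraic form of the fibre cardinality criterion for the normalization
-/

set_option linter.style.haveILetI false
set_option linter.unusedVariables false
set_option linter.unusedSectionVars false
set_option autoImplicit false
set_option backward.isDefEq.respectTransparency.types false
set_option synthInstance.maxHeartbeats 400000
set_option maxHeartbeats 1600000

open TensorProduct

namespace Groth.Agent.Helper7.NormCard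

universe u

theorem algMain (A₀ : Type u) [CommRing A₀] [IsDomain A₀] [IsIntegrallyClosed A₀]
    (K L : Type u) [Field K] [Field L] [Algebra A₀ K] [IsFractionRing A₀ K] [Algebra K L]
    [Algebra A₀ L] [IsScalarTower A₀ K L] [FiniteDimensional K L]
    (Ω : Type u) [Field Ω] [IsAlgClosed Ω] (χ : A₀ →+* Ω)
    (η : Fin (Module.finrank K L) → (integralClosure A₀ L →+* Ω)) (hη : Function.Injective η)
    (hχ : ∀ i, (η i).comp (algebraMap A₀ (integralClosure A₀ L)) = χ) :
    ∃ f : A₀, χ f ≠ 0 ∧ ∀ (A' : Type u) [CommRing A'] [Algebra A₀ A'] [IsLocalization.Away f A']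
      [Algebra A' L] [IsScalarTower A₀ A' L], Algebra.Etale A' (integralClosure A' L) := by
  classical
  obtain ⟨p, hp⟩ : ∃ p : Ideal A₀, p = RingHom.ker χ := ⟨_, rfl⟩
  haveI hpp : p.IsPrime := hp ▸ RingHom.ker_isPrime χ
  have hmemp : ∀ a, a ∈ p ↔ χ a = 0 := fun a => by rw [hp, RingHom.mem_ker]
  have hle : p.primeCompl ≤ nonZeroDivisors A₀ := p.primeCompl_le_nonZeroDivisors
  have hinjL : Function.Injective (algebraMap A₀ L) := by
    rw [IsScalarTower.algebraMap_eq A₀ K L]
    exact (algebraMap K L).injective.comp (IsFractionRing.injective A₀ K)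
  haveI : IsDomain (Localization.AtPrime p) := IsLocalization.isDomain_localization hle
  haveI : IsIntegrallyClosed (Localization.AtPrime p) :=
    isIntegrallyClosed_of_isLocalization _ _ hle
  have hunitsK : ∀ y : p.primeCompl, IsUnit (algebraMap A₀ K (y : A₀)) := fun y =>
    IsUnit.mk0 _ ((map_ne_zero_iff _ (IsFractionRing.injective A₀ K)).mpr
      (nonZeroDivisors.ne_zero (hle y.2)))
  letI : Algebra (Localization.AtPrime p) K :=
    (IsLocalization.lift (M := p.primeCompl) (g := algebraMap A₀ K) hunitsK).toAlgebra
  haveI : IsScalarTower A₀ (Localization.AtPrime p) K :=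
    IsScalarTower.of_algebraMap_eq (fun a => (IsLocalization.lift_eq hunitsK a).symm)
  haveI : IsFractionRing (Localization.AtPrime p) K :=
    IsFractionRing.isFractionRing_of_isDomain_of_isLocalization p.primeCompl _ K
  letI : Algebra (Localization.AtPrime p) L :=
    ((algebraMap K L).comp (algebraMap (Localization.AtPrime p) K)).toAlgebra
  haveI : IsScalarTower (Localization.AtPrime p) K L :=
    IsScalarTower.of_algebraMap_eq (fun _ => rfl)
  haveI : IsScalarTower A₀ (Localization.AtPrime p) L :=
    IsScalarTower.of_algebraMap_eq (fun a => by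
      rw [IsScalarTower.algebraMap_apply A₀ K L,
        IsScalarTower.algebraMap_apply A₀ (Localization.AtPrime p) K]
      rfl)
  have hunitsΩ : ∀ y : p.primeCompl, IsUnit (χ (y : A₀)) := fun y =>
    IsUnit.mk0 _ (fun h => y.2 ((hmemp _).mpr h))
  letI : Algebra (Localization.AtPrime p) Ω :=
    (IsLocalization.lift (M := p.primeCompl) (g := χ) hunitsΩ).toAlgebra
  have hApΩ : ∀ a : A₀, algebraMap (Localization.AtPrime p) Ω
      (algebraMap A₀ (Localization.AtPrime p) a) = χ a :=
    fun a => IsLocalization.lift_eq hunitsΩ a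
  haveI : IsLocalHom (algebraMap (Localization.AtPrime p) Ω) := ⟨fun x hx => by
    obtain ⟨a, s, rfl⟩ := IsLocalization.exists_mk'_eq p.primeCompl x
    rw [IsLocalization.AtPrime.isUnit_mk'_iff (Localization.AtPrime p) p]
    intro ha
    have h1 : algebraMap (Localization.AtPrime p) Ω
        (IsLocalization.mk' (Localization.AtPrime p) a s) * χ s = χ a := by
      rw [← hApΩ (s : A₀), ← map_mul, IsLocalization.mk'_spec, hApΩ]
    rw [(hmemp a).mp ha] at h1
    exact (hx.mul (hunitsΩ s)).ne_zero h1⟩
  -- the inclusion of integral closures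
  obtain ⟨j, hj⟩ : ∃ j : integralClosure A₀ L →+* integralClosure (Localization.AtPrime p) L,
      ∀ b, ((j b : integralClosure (Localization.AtPrime p) L) : L) = (b : L) :=
    ⟨{ toFun := fun b => ⟨b.1, b.2.tower_top⟩
       map_one' := rfl
       map_mul' := fun _ _ => rfl
       map_zero' := rfl
       map_add' := fun _ _ => rfl }, fun _ => rfl⟩
  letI : Algebra (integralClosure A₀ L) (integralClosure (Localization.AtPrime p) L) :=
    j.toAlgebra
  have hjalg : ∀ b, algebraMap (integralClosure A₀ L)
      (integralClosure (Localization.AtPrime p) L) b = j b := fun _ => rfl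
  haveI : IsScalarTower (integralClosure A₀ L) (integralClosure (Localization.AtPrime p) L) L :=
    IsScalarTower.of_algebraMap_eq (fun b => (hj b).symm)
  haveI : IsScalarTower A₀ (integralClosure A₀ L)
      (integralClosure (Localization.AtPrime p) L) :=
    IsScalarTower.of_algebraMap_eq (fun a => Subtype.ext (by
      rw [hjalg, hj]
      rfl))
  haveI : IsLocalization (Algebra.algebraMapSubmonoid L p.primeCompl) L :=
    IsLocalization.of_le_isUnit (by
      rintro _ ⟨y, hy, rfl⟩
      exact IsUnit.mk0 _ ((map_ne_zero_iff _ hinjL).mpr (nonZeroDivisors.ne_zero (hle hy))))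
  haveI hlocB : IsLocalization
      (Algebra.algebraMapSubmonoid (integralClosure A₀ L) p.primeCompl)
      (integralClosure (Localization.AtPrime p) L) :=
    IsLocalization.integralClosure (S := L) (Rf := Localization.AtPrime p) (Sf := L)
      p.primeCompl
  have hχ' : ∀ i (a : A₀), η i (algebraMap A₀ (integralClosure A₀ L) a) = χ a :=
    fun i a => congrArg (fun φ : A₀ →+* Ω => φ a) (hχ i)
  have hηu : ∀ i (y : Algebra.algebraMapSubmonoid (integralClosure A₀ L) p.primeCompl),
      IsUnit (η i (y : integralClosure A₀ L)) := by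
    rintro i ⟨_, y, hy, rfl⟩
    show IsUnit (η i (algebraMap A₀ (integralClosure A₀ L) y))
    rw [hχ']
    exact hunitsΩ ⟨y, hy⟩
  have hcomm : ∀ i, (IsLocalization.lift (hηu i)).comp
      (algebraMap (Localization.AtPrime p) (integralClosure (Localization.AtPrime p) L)) =
      algebraMap (Localization.AtPrime p) Ω := by
    intro i
    apply IsLocalization.ringHom_ext p.primeCompl
    ext a
    rw [RingHom.comp_apply, RingHom.comp_apply, RingHom.comp_apply, hApΩ,
      ← IsScalarTower.algebraMap_apply A₀ (Localization.AtPrime p)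
        (integralClosure (Localization.AtPrime p) L),
      IsScalarTower.algebraMap_apply A₀ (integralClosure A₀ L)
        (integralClosure (Localization.AtPrime p) L), IsLocalization.lift_eq, hχ']
  obtain ⟨ηp, hηp⟩ : ∃ ηp : Fin (Module.finrank K L) →
      (integralClosure (Localization.AtPrime p) L →ₐ[Localization.AtPrime p] Ω),
      ∀ i (b : integralClosure A₀ L), ηp i (algebraMap (integralClosure A₀ L)
        (integralClosure (Localization.AtPrime p) L) b) = η i b :=
    ⟨fun i => ⟨IsLocalization.lift (hηu i), fun r => RingHom.congr_fun (hcomm i) r⟩,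
      fun i b => IsLocalization.lift_eq (hηu i) b⟩
  have hηpinj : Function.Injective ηp := by
    intro i i' h
    apply hη
    ext b
    rw [← hηp i b, ← hηp i' b, h]
  obtain ⟨hfin, het⟩ := alg1 (Localization.AtPrime p) K L Ω ηp hηpinj
  haveI := hfin
  haveI := het
  have halg : ∀ y : L, ∃ a : A₀, a ≠ 0 ∧ IsIntegral A₀ (a • y) := by
    intro y
    obtain ⟨m, hm⟩ := IsIntegral.exists_multiple_integral_of_isLocalization (nonZeroDivisors A₀)
      (Rₘ := K) y (Algebra.IsIntegral.isIntegral (R := K) y)
    exact ⟨m.1, nonZeroDivisors.ne_zero m.2, hm⟩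
  obtain ⟨f, hfp, hf⟩ := spread A₀ L hinjL halg p (Localization.AtPrime p)
  exact ⟨f, fun h => hfp ((hmemp f).mpr h), hf⟩

end Groth.Agent.Helper7.NormCard
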