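import Mathlib
import Groth.Prelude.Def_Pi1
import Groth.Agent.Lib.Helper2.NormFin.Main
import Groth.Agent.Lib.Helper7.NormCard.AlgMain

/-!
# The fibre cardinality criterion for the normalization in a finite extension of the function
field: geometric form
-/

set_option linter.style.haveILetI false
set_option linter.unusedVariables false
set_option linter.unusedSectionVars false
set_option autoImplicit false
set_option backward.isDefEq.respectTransparency.types false
set_option backward.isDefEq.respectTransparency false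
set_option synthInstance.maxHeartbeats 400000
set_option maxHeartbeats 1600000

open CategoryTheory CategoryTheory.Limits AlgebraicGeometry TopologicalSpace

namespace Groth.Agent.Helper7.NormCard

universe u

open Groth.Agent.Helper2.NormFin

theorem appLE_congr {X Y : Scheme.{u}} {f g : X ⟶ Y} (h : f = g) (U : Y.Opens) (V : X.Opens)
    (e : V ≤ f ⁻¹ᵁ U) (e' : V ≤ g ⁻¹ᵁ U) : f.appLE U V e = g.appLE U V e' := by
  subst h
  rfl

theorem hom_ext_of_appLE {T Y : Scheme.{u}} [IsAffine T] {W : Y.Opens} (hW : IsAffineOpen W)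
    (a b : T ⟶ Y) (ha : ⊤ ≤ a ⁻¹ᵁ W) (hb : ⊤ ≤ b ⁻¹ᵁ W)
    (h : a.appLE W ⊤ ha = b.appLE W ⊤ hb) : a = b := by
  have h1 := IsAffineOpen.SpecMap_appLE_fromSpec a hW (isAffineOpen_top T) ha
  have h2 := IsAffineOpen.SpecMap_appLE_fromSpec b hW (isAffineOpen_top T) hb
  rw [h, h2, IsAffineOpen.fromSpec_top] at h1
  exact ((cancel_epi _).mp h1).symm

theorem etale_pullback_snd_of_app {Y X : Scheme.{u}} (ν : Y ⟶ X) [IsAffineHom ν] {U : X.Opens}
    (hU : IsAffineOpen U) (h : RingHom.Etale (ν.app U).hom) : Etale (pullback.snd ν U.ι) := by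
  haveI : IsAffine (U : Scheme.{u}) := hU
  haveI : IsAffine ((ν ⁻¹ᵁ U : Y.Opens) : Scheme.{u}) := hU.preimage ν
  have h1 : ∀ U' : X.Opens, U' = U → RingHom.Etale (ν.app U').hom := by
    rintro _ rfl
    exact h
  have h2 : RingHom.Etale ((ν ∣_ U).appTop).hom := by
    rw [morphismRestrict_appTop, CommRingCat.hom_comp]
    refine RingHom.Etale.stableUnderComposition _ _ (h1 _ (by simp)) ?_
    exact RingHom.Etale.of_bijective (ConcreteCategory.bijective_of_isIso _)
  haveI : Etale (ν ∣_ U) := (HasRingHomProperty.iff_of_isAffine (P := @Etale)).mpr h2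
  rw [← pullbackRestrictIsoRestrict_hom_morphismRestrict]
  infer_instance

section

variable {X : Scheme.{u}} [IsIntegral X] (L : Type u) [Field L] [Algebra X.functionField L]

theorem geo (hX : Pi1.IsNormalScheme X) [FiniteDimensional X.functionField L]
    [QuasiCompact (hL (X := X) L)] [QuasiSeparated (hL (X := X) L)]
    (Ω : Type u) [Field Ω] [IsAlgClosed Ω] (ξ : Spec (CommRingCat.of Ω) ⟶ X)
    (hcard : Nonempty (Fin (Module.finrank X.functionField L) ↪
      {η : Spec (CommRingCat.of Ω) ⟶ (hL (X := X) L).normalization // η ≫ (hL (X := X) L).fromNormalization = ξ})) :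
    ∃ U : X.Opens, Set.range ξ.base ⊆ (U : Set X) ∧
      Etale (pullback.snd (hL (X := X) L).fromNormalization U.ι) ∧
      IsFinite (pullback.snd (hL (X := X) L).fromNormalization U.ι) := by
  classical
  obtain ⟨emb⟩ := hcard
  obtain ⟨pt⟩ : Nonempty ↥(Spec (CommRingCat.of Ω)) := inferInstance
  have hsub : ∀ t : ↥(Spec (CommRingCat.of Ω)), t = pt :=
    fun t => Subsingleton.elim (α := PrimeSpectrum Ω) t pt
  obtain ⟨x, hx⟩ : ∃ x : X, x = ξ pt := ⟨_, rfl⟩
  obtain ⟨V, hV, hxV, -⟩ := exists_isAffineOpen_mem_and_subset (x := x) (U := ⊤) trivial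
  haveI : Nonempty V := ⟨⟨x, hxV⟩⟩
  have hgenV : genericPoint X ∈ V :=
    ((genericPoint_spec X).mem_open_set_iff V.isOpen).mpr ⟨x, trivial, hxV⟩
  have hξV : ⊤ ≤ ξ ⁻¹ᵁ V := by
    intro t _
    show ξ t ∈ V
    rw [hsub t, ← hx]
    exact hxV
  haveI : IsIntegrallyClosed Γ(X, V) :=
    Groth.Agent.Lib.Helper4.ZMTBirational.isIntegrallyClosed_sections (fun y => (hX y).2) hV
  haveI := functionField_isFractionRing_of_isAffineOpen X V hV
  letI algVL : Algebra Γ(X, V) L :=
    ((algebraMap X.functionField L).comp (algebraMap Γ(X, V) X.functionField)).toAlgebra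
  haveI : IsScalarTower Γ(X, V) X.functionField L :=
    IsScalarTower.of_algebraMap_eq (fun _ => rfl)
  letI algVLV : Algebra Γ(X, V) Γ(Spec (CommRingCat.of L), (hL (X := X) L) ⁻¹ᵁ V) :=
    ((hL (X := X) L).app V).hom.toAlgebra
  have heV : ∀ a : Γ(X, V), secEquiv L V hgenV
      (algebraMap Γ(X, V) Γ(Spec (CommRingCat.of L), (hL (X := X) L) ⁻¹ᵁ V) a) =
      algebraMap Γ(X, V) L a := fun a => secEquiv_app L V hgenV a
  obtain ⟨eV, -⟩ : ∃ e : Γ(Spec (CommRingCat.of L), (hL (X := X) L) ⁻¹ᵁ V) ≃ₐ[Γ(X, V)] L, True :=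
    ⟨{ secEquiv L V hgenV with commutes' := fun a => heV a }, trivial⟩
  have hW : IsAffineOpen ((hL (X := X) L).fromNormalization ⁻¹ᵁ V) := hV.preimage (hL (X := X) L).fromNormalization
  have hηW : ∀ i, ⊤ ≤ (emb i).1 ⁻¹ᵁ ((hL (X := X) L).fromNormalization ⁻¹ᵁ V) := by
    intro i t _
    show (hL (X := X) L).fromNormalization ((emb i).1 t) ∈ V
    rw [← Scheme.Hom.comp_apply, (emb i).2, hsub t, ← hx]
    exact hxV
  have hνapp : (hL (X := X) L).fromNormalization.app V =
      CommRingCat.ofHom (algebraMap Γ(X, V)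
        (integralClosure Γ(X, V) Γ(Spec (CommRingCat.of L), (hL (X := X) L) ⁻¹ᵁ V))) ≫
      ((hL (X := X) L).normalizationObjIso hV).inv := Scheme.Hom.fromNormalization_app _ hV
  have hcompat : ∀ i, (hL (X := X) L).fromNormalization.app V ≫
      (emb i).1.appLE ((hL (X := X) L).fromNormalization ⁻¹ᵁ V) ⊤ (hηW i) = ξ.appLE V ⊤ hξV := by
    intro i
    rw [← Scheme.Hom.comp_appLE]
    exact appLE_congr (emb i).2 V ⊤ _ _
  obtain ⟨χ, hχ⟩ : ∃ χ : Γ(X, V) →+* Ω, ∀ a, χ a =
      (Scheme.ΓSpecIso (CommRingCat.of Ω)).hom.hom ((ξ.appLE V ⊤ hξV).hom a) :=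
    ⟨((Scheme.ΓSpecIso (CommRingCat.of Ω)).hom.hom).comp (ξ.appLE V ⊤ hξV).hom, fun _ => rfl⟩
  obtain ⟨φ, hφ, hφsurj⟩ : ∃ φ : integralClosure Γ(X, V) L →+*
      Γ((hL (X := X) L).normalization, (hL (X := X) L).fromNormalization ⁻¹ᵁ V),
      (∀ a : Γ(X, V), φ (algebraMap Γ(X, V) (integralClosure Γ(X, V) L) a) =
        ((hL (X := X) L).fromNormalization.app V).hom a) ∧ Function.Surjective φ := by
    refine ⟨(((hL (X := X) L).normalizationObjIso hV).inv.hom).comp
      (eV.mapIntegralClosure.symm : integralClosure Γ(X, V) L →+*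
        integralClosure Γ(X, V) Γ(Spec (CommRingCat.of L), (hL (X := X) L) ⁻¹ᵁ V)), ?_, ?_⟩
    · intro a
      rw [RingHom.comp_apply]
      have h1 : (eV.mapIntegralClosure.symm : integralClosure Γ(X, V) L →+*
          integralClosure Γ(X, V) Γ(Spec (CommRingCat.of L), (hL (X := X) L) ⁻¹ᵁ V))
          (algebraMap Γ(X, V) (integralClosure Γ(X, V) L) a) =
          algebraMap Γ(X, V) (integralClosure Γ(X, V) Γ(Spec (CommRingCat.of L), (hL (X := X) L) ⁻¹ᵁ V)) a :=
        eV.mapIntegralClosure.symm.commutes a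
      rw [h1, hνapp]
      rfl
    · exact (ConcreteCategory.bijective_of_isIso ((hL (X := X) L).normalizationObjIso hV).inv).2.comp
        eV.mapIntegralClosure.symm.surjective
  obtain ⟨ηhat, hηhat⟩ : ∃ ηhat : Fin (Module.finrank X.functionField L) →
      (integralClosure Γ(X, V) L →+* Ω), ∀ i b, ηhat i b =
      (Scheme.ΓSpecIso (CommRingCat.of Ω)).hom.hom
        (((emb i).1.appLE ((hL (X := X) L).fromNormalization ⁻¹ᵁ V) ⊤ (hηW i)).hom (φ b)) :=
    ⟨fun i => ((Scheme.ΓSpecIso (CommRingCat.of Ω)).hom.hom).comp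
      ((((emb i).1.appLE ((hL (X := X) L).fromNormalization ⁻¹ᵁ V) ⊤ (hηW i)).hom).comp φ), fun _ _ => rfl⟩
  have hΓinj : Function.Injective (Scheme.ΓSpecIso (CommRingCat.of Ω)).hom.hom :=
    (ConcreteCategory.bijective_of_isIso (Scheme.ΓSpecIso (CommRingCat.of Ω)).hom).1
  have hηinj : Function.Injective ηhat := by
    intro i i' h
    apply emb.injective
    apply Subtype.ext
    apply hom_ext_of_appLE hW _ _ (hηW i) (hηW i')
    ext y
    obtain ⟨b, rfl⟩ := hφsurj y
    apply hΓinj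
    have h1 := congrArg (fun ψ : integralClosure Γ(X, V) L →+* Ω => ψ b) h
    simp only [hηhat] at h1
    exact h1
  have hηcompat : ∀ i, (ηhat i).comp (algebraMap Γ(X, V) (integralClosure Γ(X, V) L)) = χ := by
    intro i
    ext a
    rw [RingHom.comp_apply, hηhat, hφ, hχ, ← hcompat i]
    rfl
  obtain ⟨f, hf0, hf⟩ := algMain Γ(X, V) X.functionField L Ω χ ηhat hηinj hηcompat
  have hU : IsAffineOpen (X.basicOpen f) := hV.basicOpen f
  have hxU : x ∈ X.basicOpen f := by
    have h1 : pt ∈ ξ ⁻¹ᵁ (X.basicOpen f) := by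
      rw [Scheme.preimage_basicOpen]
      have hu : IsUnit (χ f) := isUnit_iff_ne_zero.mpr hf0
      have h2 : IsUnit ((ξ.appLE V ⊤ hξV).hom f) := by
        have h3 := hu.map (Scheme.ΓSpecIso (CommRingCat.of Ω)).inv.hom
        have h4 : (Scheme.ΓSpecIso (CommRingCat.of Ω)).inv.hom (χ f) =
            (ξ.appLE V ⊤ hξV).hom f := by
          rw [hχ]
          exact (Scheme.ΓSpecIso (CommRingCat.of Ω)).hom_inv_id_apply _
        rwa [h4] at h3
      have h5 : (Spec (CommRingCat.of Ω)).basicOpen ((ξ.appLE V ⊤ hξV).hom f) = ⊤ :=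
        Scheme.basicOpen_of_isUnit _ h2
      have h6 : (Spec (CommRingCat.of Ω)).basicOpen ((ξ.appLE V ⊤ hξV).hom f) =
          ⊤ ⊓ (Spec (CommRingCat.of Ω)).basicOpen ((ξ.app V).hom f) :=
        Scheme.basicOpen_res _ _ _
      rw [h5] at h6
      have h7 : pt ∈ (⊤ : (Spec (CommRingCat.of Ω)).Opens) := trivial
      rw [h6] at h7
      exact h7.2
    rw [hx]
    exact h1
  haveI : Nonempty (X.basicOpen f) := ⟨⟨x, hxU⟩⟩
  have hgenU : genericPoint X ∈ X.basicOpen f :=
    ((genericPoint_spec X).mem_open_set_iff (X.basicOpen f).isOpen).mpr ⟨x, trivial, hxU⟩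
  haveI := hV.isLocalization_basicOpen f
  letI algUL : Algebra Γ(X, X.basicOpen f) L :=
    ((algebraMap X.functionField L).comp
      (algebraMap Γ(X, X.basicOpen f) X.functionField)).toAlgebra
  haveI : IsScalarTower Γ(X, V) Γ(X, X.basicOpen f) L :=
    IsScalarTower.of_algebraMap_eq (fun a => by
      show algebraMap X.functionField L (algebraMap Γ(X, V) X.functionField a) =
        algebraMap X.functionField L (algebraMap Γ(X, X.basicOpen f) X.functionField
          (algebraMap Γ(X, V) Γ(X, X.basicOpen f) a))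
      congr 1
      exact (TopCat.Presheaf.germ_res_apply X.presheaf (homOfLE (X.basicOpen_le f))
        (genericPoint X) hgenU a).symm)
  have hetL : Algebra.Etale Γ(X, X.basicOpen f) (integralClosure Γ(X, X.basicOpen f) L) :=
    hf Γ(X, X.basicOpen f)
  letI algULU : Algebra Γ(X, X.basicOpen f)
      Γ(Spec (CommRingCat.of L), (hL (X := X) L) ⁻¹ᵁ X.basicOpen f) :=
    ((hL (X := X) L).app (X.basicOpen f)).hom.toAlgebra
  have heU : ∀ a : Γ(X, X.basicOpen f), secEquiv L (X.basicOpen f) hgenU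
      (algebraMap Γ(X, X.basicOpen f)
        Γ(Spec (CommRingCat.of L), (hL (X := X) L) ⁻¹ᵁ X.basicOpen f) a) =
      algebraMap Γ(X, X.basicOpen f) L a := fun a => secEquiv_app L (X.basicOpen f) hgenU a
  obtain ⟨eU, -⟩ : ∃ e : Γ(Spec (CommRingCat.of L), (hL (X := X) L) ⁻¹ᵁ X.basicOpen f)
      ≃ₐ[Γ(X, X.basicOpen f)] L, True :=
    ⟨{ secEquiv L (X.basicOpen f) hgenU with commutes' := fun a => heU a }, trivial⟩
  haveI hetLU : Algebra.Etale Γ(X, X.basicOpen f)
      (integralClosure Γ(X, X.basicOpen f)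
        Γ(Spec (CommRingCat.of L), (hL (X := X) L) ⁻¹ᵁ X.basicOpen f)) :=
    Algebra.Etale.of_equiv eU.mapIntegralClosure.symm
  have hνU : RingHom.Etale ((hL (X := X) L).fromNormalization.app (X.basicOpen f)).hom := by
    rw [Scheme.Hom.fromNormalization_app _ hU, CommRingCat.hom_comp]
    refine RingHom.Etale.stableUnderComposition _ _ ?_ ?_
    · exact RingHom.etale_algebraMap.mpr hetLU
    · exact RingHom.Etale.of_bijective (ConcreteCategory.bijective_of_isIso _)
  haveI hetU := etale_pullback_snd_of_app (hL (X := X) L).fromNormalization hU hνU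
  refine ⟨X.basicOpen f, ?_, hetU, ?_⟩
  · rintro _ ⟨t, rfl⟩
    show ξ t ∈ X.basicOpen f
    rw [hsub t, ← hx]
    exact hxU
  · rw [IsFinite.iff_isIntegralHom_and_locallyOfFiniteType]
    exact ⟨inferInstance, inferInstance⟩

end

end Groth.Agent.Helper7.NormCard
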